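import Mathlib
import Cfsg.Agent.Solvable.SchurZassenhaus
import Cfsg.Agent.Solvable.MinNormal

/-!
In a finite solvable group, subgroups of the same order all of whose prime divisors belong to
cyclic Sylow subgroups are conjugate.
-/

set_option autoImplicit false
set_option linter.style.haveILetI false

namespace CfsgLib.AbConjSolvable

open scoped Pointwise
open CfsgLib.Solvable

universe u

theorem mem_zpowers_of_orderOf_eq {C : Type*} [Group C] [Finite C] [IsCyclic C] {q : ℕ}
    (hq : 0 < q) {x y : C} (hx : orderOf x = q) (hy : orderOf y = q) :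
    y ∈ Subgroup.zpowers x := by
  by_contra hne
  classical
  let _ := Fintype.ofFinite C
  have h1 := IsCyclic.card_pow_eq_one_le (α := C) hq
  let S : Set C := insert y (Subgroup.zpowers x : Set C)
  have hS : ∀ a ∈ S, a ^ q = 1 := by
    rintro a (rfl | ⟨i, rfl⟩)
    · rw [← hy]; exact pow_orderOf_eq_one _
    · show (x ^ i) ^ q = 1
      rw [← zpow_natCast, ← zpow_mul, mul_comm, zpow_mul, zpow_natCast, ← hx, pow_orderOf_eq_one,
        one_zpow]
  have h2 : S.ncard ≤ q := by
    rw [Set.ncard_eq_toFinset_card']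
    refine le_trans (Finset.card_le_card fun a ha => ?_) h1
    rw [Finset.mem_filter]
    exact ⟨Finset.mem_univ _, hS a (Set.mem_toFinset.1 ha)⟩
  have h3 : S.ncard = q + 1 := by
    show Set.ncard (insert y (Subgroup.zpowers x : Set C)) = _
    rw [Set.ncard_insert_of_notMem hne (Set.toFinite _), ← Nat.card_coe_set_eq]
    exact congrArg (· + 1) ((Nat.card_zpowers x).trans hx)
  omega

/-- The subgroup form. -/
theorem mem_zpowers_of_mem_cyclic {K : Type*} [Group K] [Finite K] {C : Subgroup K} (hC : IsCyclic C)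
    {x y : K} (hxC : x ∈ C) (hyC : y ∈ C) (h : orderOf x = orderOf y) : y ∈ Subgroup.zpowers x := by
  haveI := hC
  obtain ⟨i, hi⟩ := Subgroup.mem_zpowers_iff.1
    (mem_zpowers_of_orderOf_eq (C := C) (orderOf_pos x) (x := ⟨x, hxC⟩) (y := ⟨y, hyC⟩)
      (Subgroup.orderOf_mk x hxC) ((Subgroup.orderOf_mk y hyC).trans h.symm))
  exact ⟨i, by simpa using congrArg Subtype.val hi⟩

private theorem conj_of_cyclic (n : ℕ) : ∀ (H : Type u) [Group H] [Finite H], Nat.card H = n →
    Group.IsSolvable H → ∀ A B : Subgroup H, Nat.card A = Nat.card B →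
    (∀ q : ℕ, q.Prime → q ∣ Nat.card A → ∀ P : Sylow q H, IsCyclic (P : Subgroup H)) →
    ∃ g : H, MulAut.conj g • A = B := by
  induction n using Nat.strong_induction_on with
  | _ n ih =>
  intro H _ _ hn hsol A B hAB hcyc
  haveI := hsol
  rcases subsingleton_or_nontrivial H with hss | hnt
  · exact ⟨1, Subgroup.ext fun x => by
      rw [Subsingleton.elim x 1]; exact ⟨fun _ => one_mem _, fun _ => one_mem _⟩⟩
  obtain ⟨N, p, k, hNn, hN, -, hNab, hp, hk, hNc, hNexp⟩ :=
    exists_minimal_normal_of_solvable (G := H)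
  haveI := hNn
  haveI := Fact.mk hp
  set f := QuotientGroup.mk' N with hf
  haveI : Group.IsSolvable (H ⧸ N) := inferInstance
  have hfs := QuotientGroup.mk'_surjective N
  have ihq : ∀ X Y : Subgroup (H ⧸ N), Nat.card X = Nat.card Y → Nat.card X ∣ Nat.card A →
      ∃ g : H, (MulAut.conj g • X.comap f) = Y.comap f := by
    intro X Y hXY hd
    obtain ⟨x, hx⟩ := ih _ (hn ▸ card_quotient_lt N hN) (H ⧸ N) rfl inferInstance X Y hXY
      (fun q hq hqX P => by
        haveI := Fact.mk hq
        obtain ⟨P0, rfl⟩ := Sylow.mapSurjective_surjective hfs q P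
        haveI := hcyc q hq (hqX.trans hd) P0
        rw [Sylow.coe_mapSurjective]
        exact isCyclic_of_surjective (f.subgroupMap (P0 : Subgroup H))
          (f.subgroupMap_surjective _))
    obtain ⟨g, rfl⟩ := hfs x
    refine ⟨g, ?_⟩
    rw [← hx]
    ext y
    rw [mem_conj_smul_iff, Subgroup.mem_comap, Subgroup.mem_comap, mem_conj_smul_iff]
    simp only [map_mul, map_inv, hf]
  by_cases hpA : p ∣ Nat.card A
  · -- `N ≤ A` and `N ≤ B`
    have hle : ∀ C : Subgroup H, p ∣ Nat.card C → N ≤ C := by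
      intro C hC
      obtain ⟨c, hc⟩ := exists_prime_orderOf_dvd_card' (G := C) p hC
      have hcp : IsPGroup p (Subgroup.zpowers (c : H)) := IsPGroup.of_card (n := 1) (by
        rw [Nat.card_zpowers, Subgroup.orderOf_coe, hc, pow_one])
      obtain ⟨P, hcP⟩ := hcp.exists_le_sylow
      haveI := hcyc p hp hpA P
      have hNP : N ≤ (P : Subgroup H) := (IsPGroup.of_card hNc).le_sylow_of_normal P
      intro x hx
      rcases eq_or_ne x 1 with rfl | hx1
      · exact one_mem C
      have hxo : orderOf x = p := orderOf_eq_prime (hNexp x hx) hx1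
      obtain ⟨i, hi⟩ := Subgroup.mem_zpowers_iff.1 (mem_zpowers_of_mem_cyclic
        (hcyc p hp hpA P) (hcP (Subgroup.mem_zpowers _)) (hNP hx)
        (by rw [Subgroup.orderOf_coe, hc, hxo]))
      exact hi ▸ zpow_mem c.2 i
    have hNA := hle A hpA
    have hNB := hle B (hAB ▸ hpA)
    have hA' := card_map_mk'_mul N hNA
    have hB' := card_map_mk'_mul N hNB
    obtain ⟨g, hg⟩ := ihq (A.map f) (B.map f)
      (Nat.eq_of_mul_eq_mul_right Nat.card_pos (hA'.trans (hAB.trans hB'.symm)))
      (Subgroup.card_map_dvd A f)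
    refine ⟨g, ?_⟩
    rwa [Subgroup.comap_map_eq, Subgroup.comap_map_eq, QuotientGroup.ker_mk', sup_eq_left.2 hNA,
      sup_eq_left.2 hNB] at hg
  · have hcop : ∀ C : Subgroup H, ¬ p ∣ Nat.card C → (Nat.card C).Coprime (Nat.card N) := fun C hC => by
      rw [hNc]
      exact ((hp.coprime_iff_not_dvd.2 hC).symm).pow_right k
    have hcard : ∀ C : Subgroup H, ¬ p ∣ Nat.card C → Nat.card (C.map f) = Nat.card C := by
      intro C hC
      refine (Nat.card_congr (Equiv.ofBijective (f.subgroupMap C) ⟨?_, f.subgroupMap_surjective C⟩)).symm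
      rw [injective_iff_map_eq_one]
      intro c hc
      have h1 : (c : H) ∈ N := (QuotientGroup.eq_one_iff _).1 (congrArg Subtype.val hc)
      exact Subtype.ext ((Subgroup.mem_bot).1
        ((disjoint_iff.1 (disjoint_of_coprime_card (hcop C hC))).le ⟨c.2, h1⟩))
    obtain ⟨g, hg⟩ := ihq (A.map f) (B.map f) (by rw [hcard A hpA, hcard B (hAB ▸ hpA), hAB])
      (Subgroup.card_map_dvd A f)
    rw [Subgroup.comap_map_eq, Subgroup.comap_map_eq, QuotientGroup.ker_mk', Subgroup.smul_sup,
      conj_smul_eq_map g N, show N.map (MulAut.conj g).toMonoidHom = N by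
        rw [← conj_smul_eq_map]; exact conj_smul_le_of_mem_normal g] at hg
    obtain ⟨m, -, hm⟩ := exists_conj_of_sup_eq N (MulAut.conj g • A) B hg
      (by rw [card_conj_smul]; exact hcop A hpA) (hcop B (hAB ▸ hpA))
      (Or.inl ((inferInstance : Group.IsSolvable N)))
    exact ⟨m * g, by rw [map_mul, mul_smul, hm]⟩

/-- In a finite solvable group two subgroups of the same order, whose prime divisors all have
cyclic Sylow subgroups, are conjugate. -/
theorem exists_conj_of_card_eq_of_cyclic {H : Type*} [Group H] [Finite H] (hsol : Group.IsSolvable H)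
    (A B : Subgroup H) (hAB : Nat.card A = Nat.card B)
    (hcyc : ∀ q : ℕ, q.Prime → q ∣ Nat.card A → ∀ P : Sylow q H, IsCyclic (P : Subgroup H)) :
    ∃ g : H, MulAut.conj g • A = B :=
  conj_of_cyclic _ H rfl hsol A B hAB hcyc

end CfsgLib.AbConjSolvable
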